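import Mathlib
import Cfsg.Agent.Lib.Classical.UnitarySimple
import Cfsg.Agent.Lib.Classical.Linear

/-!
# The abelian radical of a parabolic subgroup of `SU n q` attached to a Witt frame

For `e : Fin m → F^n` spanning a totally isotropic subspace, `rad S : x ↦ x + E S (H(x, e_j))_j`
with `S` a skew-Hermitian `m × m` matrix.
-/

set_option autoImplicit false
set_option linter.unusedSectionVars false

namespace Cfsg.Agent.Classical.UnitaryMinDeg

open Matrix
open Cfsg.Agent.Forms
open Cfsg.Agent.Classical.Unitary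

variable {F : Type*} [Field F] [Fintype F] {q n m : ℕ}

local notation "Vec" => (Fin n → F)
local notation "H" => Cfsg.hermForm n F q

/-- A partial Witt basis. -/
structure IsWittFrame (q : ℕ) (e f : Fin m → Fin n → F) : Prop where
  ee : ∀ i j, Cfsg.hermForm n F q (e i) (e j) = 0
  ff : ∀ i, Cfsg.hermForm n F q (f i) (f i) = 0
  ef : ∀ i j, i ≠ j → Cfsg.hermForm n F q (e i) (f j) = 0
  ef_one : ∀ i, Cfsg.hermForm n F q (e i) (f i) = 1

/-- The matrix with columns `e i`. -/
def eM (e : Fin m → Fin n → F) : Matrix (Fin n) (Fin m) F := Matrix.of fun k i => e i k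

/-- The vector `(H(x, e_j))_j`. -/
def hv (q : ℕ) (e : Fin m → Fin n → F) (x : Fin n → F) : Fin m → F :=
  fun j => Cfsg.hermForm n F q x (e j)

/-- The matrix of `hv`. -/
def eQ (q : ℕ) (e : Fin m → Fin n → F) : Matrix (Fin m) (Fin n) F :=
  Matrix.of fun j k => e j k ^ q

theorem eQ_mulVec (e : Fin m → Fin n → F) (x : Vec) : eQ q e *ᵥ x = hv q e x := by
  funext j
  simp only [eQ, hv, Cfsg.hermForm, Matrix.mulVec, dotProduct, Matrix.of_apply]
  exact Finset.sum_congr rfl fun k _ => mul_comm _ _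

theorem eM_mulVec (e : Fin m → Fin n → F) (b : Fin m → F) :
    eM e *ᵥ b = ∑ i, b i • e i := by
  funext k
  simp only [eM, Matrix.mulVec, dotProduct, Matrix.of_apply, Finset.sum_apply, Pi.smul_apply,
    smul_eq_mul]
  exact Finset.sum_congr rfl fun i _ => mul_comm _ _

theorem eM_mulVec_single (e : Fin m → Fin n → F) (i : Fin m) :
    eM e *ᵥ Pi.single i 1 = e i := by
  funext k
  simp [eM, Matrix.mulVec_single_one]

variable (hF : Fintype.card F = q ^ 2)

theorem H_eM_left (e : Fin m → Fin n → F) (b : Fin m → F) (y : Vec) :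
    H (eM e *ᵥ b) y = ∑ i, b i * H (e i) y := by
  rw [eM_mulVec, H_sum_left]
  exact Finset.sum_congr rfl fun i _ => H_smul_left _ _ _

include hF in
theorem H_eM_right (e : Fin m → Fin n → F) (b : Fin m → F) (x : Vec) :
    H x (eM e *ᵥ b) = ∑ i, b i ^ q * hv q e x i := by
  rw [eM_mulVec, H_sum_right hF]
  exact Finset.sum_congr rfl fun i _ => H_smul_right _ _ _

/-! ### Skew-Hermitian matrices -/

/-- The conjugate transpose. -/
def cT {k l : ℕ} (S : Matrix (Fin k) (Fin l) F) : Matrix (Fin l) (Fin k) F :=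
  (S.map (HermStd.qHom hF))ᵀ

theorem cT_apply {k l : ℕ} (S : Matrix (Fin k) (Fin l) F) (i : Fin l) (j : Fin k) :
    cT hF S i j = S j i ^ q := rfl

theorem cT_mul {k l r : ℕ} (A : Matrix (Fin k) (Fin l) F) (B : Matrix (Fin l) (Fin r) F) :
    cT hF (A * B) = cT hF B * cT hF A := by
  simp only [cT, Matrix.map_mul, Matrix.transpose_mul]

theorem cT_add {k l : ℕ} (A B : Matrix (Fin k) (Fin l) F) :
    cT hF (A + B) = cT hF A + cT hF B := by
  ext i j; simp [cT, HermStd.add_pow_q hF]

theorem cT_cT {k l : ℕ} (A : Matrix (Fin k) (Fin l) F) : cT hF (cT hF A) = A := by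
  ext i j; simp [cT_apply, pow_qq hF]

/-- The skew-Hermitian matrices. -/
def skew (m : ℕ) : AddSubgroup (Matrix (Fin m) (Fin m) F) where
  carrier := {S | cT hF S = -S}
  zero_mem' := by ext i j; simp [cT_apply, zero_pow (q_ne_zero hF)]
  add_mem' {a b} ha hb := by
    simp only [Set.mem_ofPred_eq] at ha hb ⊢
    rw [cT_add, ha, hb, neg_add]
  neg_mem' {a} ha := by
    simp only [Set.mem_ofPred_eq] at ha ⊢
    ext i j
    have := congrFun (congrFun ha i) j
    simp only [cT_apply, Matrix.neg_apply] at this ⊢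
    rw [← HermStd.qHom_apply hF, map_neg, HermStd.qHom_apply, this]

theorem skew_apply (S : skew hF m) (i j : Fin m) :
    (S : Matrix (Fin m) (Fin m) F) j i ^ q = - (S : Matrix (Fin m) (Fin m) F) i j :=
  congrFun (congrFun S.2 i) j

/-- Congruence of skew-Hermitian matrices. -/
def adP (P : Matrix (Fin m) (Fin m) F) : skew hF m →+ skew hF m where
  toFun S := ⟨P * (S : Matrix (Fin m) (Fin m) F) * cT hF P, by
    show cT hF (P * (S : Matrix (Fin m) (Fin m) F) * cT hF P) =
      -(P * (S : Matrix (Fin m) (Fin m) F) * cT hF P)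
    rw [cT_mul, cT_mul, cT_cT, S.2, Matrix.neg_mul, Matrix.mul_neg, Matrix.mul_assoc]⟩
  map_zero' := Subtype.ext (by simp)
  map_add' S T := Subtype.ext (by simp [Matrix.mul_add, Matrix.add_mul])

@[simp] theorem coe_adP (P : Matrix (Fin m) (Fin m) F) (S : skew hF m) :
    (adP hF P S : Matrix (Fin m) (Fin m) F) = P * S * cT hF P := rfl

/-! ### The radical -/

variable {e f : Fin m → Fin n → F} (hW : IsWittFrame q e f)

/-- The matrix of a radical element. -/
def radM (q : ℕ) (e : Fin m → Fin n → F) (S : Matrix (Fin m) (Fin m) F) :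
    Matrix (Fin n) (Fin n) F :=
  1 + eM e * S * eQ q e

theorem radM_mulVec (S : Matrix (Fin m) (Fin m) F) (x : Vec) :
    radM q e S *ᵥ x = x + eM e *ᵥ (S *ᵥ hv q e x) := by
  rw [radM, Matrix.add_mulVec, Matrix.one_mulVec, ← Matrix.mulVec_mulVec, ← Matrix.mulVec_mulVec,
    eQ_mulVec]

include hW in
theorem hv_eM (b : Fin m → F) : hv q e (eM e *ᵥ b) = 0 := by
  funext j
  simp [hv, H_eM_left, hW.ee]

include hW in
theorem eQ_mul_eM : eQ q e * eM e = 0 := by
  ext j i
  have h := hW.ee i j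
  simp only [Cfsg.hermForm] at h
  simp only [eQ, eM, Matrix.mul_apply, Matrix.of_apply, Matrix.zero_apply]
  rw [← h]
  exact Finset.sum_congr rfl fun k _ => mul_comm _ _

include hW in
theorem det_radM (S : Matrix (Fin m) (Fin m) F) : (radM q e S).det = 1 := by
  rw [radM, Matrix.det_one_add_mul_comm, ← Matrix.mul_assoc, eQ_mul_eM hW, Matrix.zero_mul,
    add_zero, Matrix.det_one]

include hF hW in
theorem radM_preserves (S : skew hF m) (x y : Vec) :
    H (radM q e (S : Matrix (Fin m) (Fin m) F) *ᵥ x)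
      (radM q e (S : Matrix (Fin m) (Fin m) F) *ᵥ y) = H x y := by
  obtain ⟨c, hc⟩ : ∃ c, c = (S : Matrix (Fin m) (Fin m) F) *ᵥ hv q e x := ⟨_, rfl⟩
  obtain ⟨d, hd⟩ : ∃ d, d = (S : Matrix (Fin m) (Fin m) F) *ᵥ hv q e y := ⟨_, rfl⟩
  rw [radM_mulVec, radM_mulVec, ← hc, ← hd, H_add_left, H_add_right hF, H_add_right hF]
  have h0 : H (eM e *ᵥ c) (eM e *ᵥ d) = 0 := by
    rw [H_eM_right hF, hv_eM hW]; simp
  have h1 : H x (eM e *ᵥ d) + H (eM e *ᵥ c) y = 0 := by
    rw [H_eM_right hF, H_eM_left]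
    have e1 : ∀ i, d i ^ q = ∑ j, (S : Matrix (Fin m) (Fin m) F) i j ^ q * hv q e y j ^ q := by
      intro i
      rw [hd, ← HermStd.qHom_apply hF]
      simp only [Matrix.mulVec, dotProduct, map_sum, map_mul, HermStd.qHom_apply]
    simp_rw [e1, hc, Matrix.mulVec, dotProduct, Finset.sum_mul]
    rw [Finset.sum_comm, ← Finset.sum_add_distrib]
    refine Finset.sum_eq_zero fun i _ => ?_
    rw [← Finset.sum_add_distrib]
    refine Finset.sum_eq_zero fun j _ => ?_
    have hq : hv q e y i ^ q = H (e i) y := H_conj hF _ _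
    rw [skew_apply hF S i j, ← hq]
    ring
  linear_combination h0 + h1

/-- A radical element. -/
def rad (S : skew hF m) : Cfsg.SU n F q :=
  suMk (radM q e (S : Matrix (Fin m) (Fin m) F)) (det_radM hW _) (radM_preserves hF hW S)

theorem rad_mulVec (S : skew hF m) (x : Vec) :
    mat (rad hF hW S) *ᵥ x = x + eM e *ᵥ ((S : Matrix (Fin m) (Fin m) F) *ᵥ hv q e x) :=
  radM_mulVec _ x

theorem rad_add (S T : skew hF m) : rad hF hW (S + T) = rad hF hW S * rad hF hW T := by
  refine SU_ext fun x => ?_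
  rw [mul_mulVec, rad_mulVec, rad_mulVec, rad_mulVec, AddSubgroup.coe_add, Matrix.add_mulVec,
    Matrix.mulVec_add]
  have : hv q e (x + eM e *ᵥ ((T : Matrix (Fin m) (Fin m) F) *ᵥ hv q e x)) = hv q e x := by
    funext j
    have h := congrFun (hv_eM hW ((T : Matrix (Fin m) (Fin m) F) *ᵥ hv q e x)) j
    simp only [hv, Pi.zero_apply] at h ⊢
    rw [H_add_left]
    exact add_eq_left.2 h
  rw [this]
  abel

theorem rad_zero : rad hF hW 0 = 1 := by
  refine SU_ext fun x => ?_
  rw [rad_mulVec, mat_one, Matrix.one_mulVec]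
  simp

/-- The representation of the radical as a homomorphism. -/
def radHom : Multiplicative (skew hF m) →* Cfsg.SU n F q where
  toFun S := rad hF hW S.toAdd
  map_one' := rad_zero hF hW
  map_mul' S T := rad_add hF hW S.toAdd T.toAdd

/-! ### Lifting linear maps of the isotropic space -/

/-- `P` is induced by an element of the special unitary group. -/
def Lifts (q : ℕ) (e : Fin m → Fin n → F) (P : Matrix (Fin m) (Fin m) F) : Prop :=
  ∃ L : Cfsg.SU n F q, mat L * eM e = eM e * P

theorem conj_rad {P : Matrix (Fin m) (Fin m) F} {L : Cfsg.SU n F q}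
    (hL : mat L * eM e = eM e * P) (S : skew hF m) :
    L * rad hF hW S * L⁻¹ = rad hF hW (adP hF P S) := by
  rw [mul_inv_eq_iff_eq_mul]
  refine SU_ext fun x => ?_
  rw [mul_mulVec, mul_mulVec, rad_mulVec, rad_mulVec, Matrix.mulVec_add, Matrix.mulVec_mulVec,
    hL, ← Matrix.mulVec_mulVec]
  have key : cT hF P *ᵥ hv q e (mat L *ᵥ x) = hv q e x := by
    funext k
    have hLk : mat L *ᵥ e k = eM e *ᵥ (fun i => P i k) := by
      rw [← eM_mulVec_single e k, Matrix.mulVec_mulVec, hL, ← Matrix.mulVec_mulVec,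
        Matrix.mulVec_single_one]
      rfl
    calc (cT hF P *ᵥ hv q e (mat L *ᵥ x)) k
        = ∑ i, P i k ^ q * hv q e (mat L *ᵥ x) i := rfl
      _ = H (mat L *ᵥ x) (mat L *ᵥ e k) := by rw [hLk, H_eM_right hF]
      _ = hv q e x k := SU_H L _ _
  rw [coe_adP, ← Matrix.mulVec_mulVec, ← Matrix.mulVec_mulVec, key]

theorem lifts_mul {P Q : Matrix (Fin m) (Fin m) F} (hP : Lifts q e P) (hQ : Lifts q e Q) :
    Lifts q e (P * Q) := by
  obtain ⟨L, hL⟩ := hP
  obtain ⟨M, hM⟩ := hQ
  exact ⟨L * M, by rw [mat_mul, Matrix.mul_assoc, hM, ← Matrix.mul_assoc, hL, Matrix.mul_assoc]⟩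

theorem lifts_one : Lifts q e (1 : Matrix (Fin m) (Fin m) F) :=
  ⟨1, by rw [mat_one, Matrix.one_mul, Matrix.mul_one]⟩

theorem lifts_of_mulVec {P : Matrix (Fin m) (Fin m) F} (L : Cfsg.SU n F q)
    (h : ∀ k, mat L *ᵥ e k = eM e *ᵥ (fun i => P i k)) : Lifts q e P := by
  refine ⟨L, Matrix.ext_of_mulVec_single fun k => ?_⟩
  rw [← Matrix.mulVec_mulVec, ← Matrix.mulVec_mulVec, eM_mulVec_single, h,
    Matrix.mulVec_single_one]
  rfl

include hF hW in
theorem lifts_transvection (i j : Fin m) (hij : i ≠ j) (c : F) :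
    Lifts q e ((SpecialLinearGroup.transvection hij c :
      SpecialLinearGroup (Fin m) F) : Matrix (Fin m) (Fin m) F) := by
  have hfe : ∀ a b : Fin m, a ≠ b → H (f b) (e a) = 0 := fun a b h =>
    (H_eq_zero_comm hF).1 (hW.ef a b h)
  have hcq : (-(c ^ q)) ^ q = -c := by
    rw [← HermStd.qHom_apply hF, map_neg, HermStd.qHom_apply, pow_qq hF]
  have hdet : (two q (c • e i) (f j) ((-(c ^ q)) • f j) (e i)).det = 1 := by
    rw [det_two]
    simp [H_smul_left, H_neg_left, hW.ef i j hij, hfe i j hij, hW.ee]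
  have hpres : ∀ x y, H (two q (c • e i) (f j) ((-(c ^ q)) • f j) (e i) *ᵥ x)
      (two q (c • e i) (f j) ((-(c ^ q)) • f j) (e i) *ᵥ y) = H x y := by
    intro x y
    simp only [two_mulVec, H_add_left, H_add_right hF, H_smul_left, H_smul_right, hW.ef i j hij,
      hfe i j hij, hW.ee, hW.ff, H_conj hF, mul_pow, hcq]
    ring
  refine lifts_of_mulVec (suMk _ hdet hpres) fun k => ?_
  rw [suMk_mulVec, two_mulVec, hW.ee k i, zero_smul, add_zero]
  rcases eq_or_ne k j with rfl | hkj
  · rw [hW.ef_one k, one_smul]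
    have : (fun l => ((SpecialLinearGroup.transvection hij c :
        SpecialLinearGroup (Fin m) F) : Matrix (Fin m) (Fin m) F) l k) =
        Pi.single k 1 + c • Pi.single i 1 := by
      funext l
      simp [SpecialLinearGroup.transvection, Matrix.transvection, Matrix.one_apply,
        Matrix.single_apply, Pi.single_apply, eq_comm]
    rw [this, Matrix.mulVec_add, Matrix.mulVec_smul, eM_mulVec_single, eM_mulVec_single]
  · rw [hW.ef k j hkj, zero_smul, add_zero]
    have : (fun l => ((SpecialLinearGroup.transvection hij c :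
        SpecialLinearGroup (Fin m) F) : Matrix (Fin m) (Fin m) F) l k) = Pi.single k 1 := by
      funext l
      simp [SpecialLinearGroup.transvection, Matrix.transvection, Matrix.one_apply,
        Matrix.single_apply, Pi.single_apply, eq_comm, hkj.symm]
    rw [this, eM_mulVec_single]

include hF hW in
theorem lifts_of_det {P : Matrix (Fin m) (Fin m) F} (hd : P.det = 1) : Lifts q e P := by
  have key : ∀ g : SpecialLinearGroup (Fin m) F, g ∈ Subgroup.closure
      (Classical.Linear.transvectionSet (Fin m) F) →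
      Lifts q e (g : Matrix (Fin m) (Fin m) F) := by
    intro g hg
    refine Subgroup.closure_induction_left (p := fun (g : SpecialLinearGroup (Fin m) F) _ => Lifts q e
      (g : Matrix (Fin m) (Fin m) F)) ?_ ?_ ?_ hg
    · simpa using lifts_one
    · rintro x ⟨i, j, hij, c, rfl⟩ y _ hy
      simpa using lifts_mul (lifts_transvection hF hW i j hij c) hy
    · rintro x ⟨i, j, hij, c, rfl⟩ y _ hy
      have hx : (SpecialLinearGroup.transvection hij c)⁻¹ =
          (SpecialLinearGroup.transvection hij (-c) : SpecialLinearGroup (Fin m) F) := by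
        refine inv_eq_of_mul_eq_one_right (Subtype.ext ?_)
        show Matrix.transvection i j c * Matrix.transvection i j (-c) = 1
        rw [Matrix.transvection_mul_transvection_same _ _ hij, add_neg_cancel,
          Matrix.transvection_zero]
      rw [hx]
      simpa using lifts_mul (lifts_transvection hF hW i j hij (-c)) hy
  exact key ⟨P, hd⟩ (by rw [Classical.Linear.closure_transvectionSet]; exact Subgroup.mem_top _)

include hF hW in
/-- In dimension three the radical line can be scaled arbitrarily. -/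
theorem lifts_scalar_one (hm : m = 1) {w : Vec} (hww : H w w = 1) (hwe : ∀ i, H w (e i) = 0)
    (hwf : ∀ i, H w (f i) = 0) {P : Matrix (Fin m) (Fin m) F} (hd : P.det ≠ 0) :
    Lifts q e P := by
  subst hm
  have hP : P 0 0 ≠ 0 := by rwa [Matrix.det_fin_one] at hd
  obtain ⟨t, ht⟩ : ∃ t, t = P 0 0 := ⟨_, rfl⟩
  rw [← ht] at hP
  obtain ⟨s, hs⟩ : ∃ s, s = (t ^ q)⁻¹ := ⟨_, rfl⟩
  obtain ⟨δ, hδ⟩ : ∃ δ, δ = t ^ q / t := ⟨_, rfl⟩
  have hef := hW.ef_one 0
  have hee := hW.ee 0 0
  have hff := hW.ff 0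
  have hfe : H (f 0) (e 0) = 1 := by rw [← H_conj hF, hef, one_pow]
  have hew : H (e 0) w = 0 := (H_eq_zero_comm hF).1 (hwe 0)
  have hfw : H (f 0) w = 0 := (H_eq_zero_comm hF).1 (hwf 0)
  have hq0 : t ^ q ≠ 0 := pow_ne_zero _ hP
  have hsq : s ^ q = t⁻¹ := by rw [hs, inv_pow, pow_qq hF]
  have hδq : δ ^ q = t / t ^ q := by rw [hδ, div_pow, pow_qq hF]
  have hsub : ∀ x : F, (x - 1) ^ q = x ^ q - 1 := fun x => by
    rw [← HermStd.qHom_apply hF, map_sub, map_one, HermStd.qHom_apply]
  let A := two q ((t - 1) • e 0) (f 0) ((s - 1) • f 0) (e 0)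
  let B := two q ((δ - 1) • w) w 0 0
  have hA : ∀ x y, H (A *ᵥ x) (A *ᵥ y) = H x y := by
    intro x y
    simp only [A, two_mulVec, H_add_left, H_add_right hF, H_smul_left, H_smul_right, hee, hff,
      hef, hfe, H_conj hF, mul_pow, hsub, hsq]
    rw [hs]
    field_simp
    ring
  have hB : ∀ x y, H (B *ᵥ x) (B *ᵥ y) = H x y := by
    intro x y
    simp only [B, two_mulVec, smul_zero, add_zero, H_add_left, H_add_right hF, H_smul_left,
      H_smul_right, hww, H_conj hF, mul_pow, hsub, hδq]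
    rw [hδ]
    field_simp
    ring
  have hdet : (A * B).det = 1 := by
    rw [Matrix.det_mul, det_two, det_two]
    simp only [H_smul_left, hee, hff, hef, hfe, hww, H_zero_left, mul_one, mul_zero, sub_zero,
      zero_mul, add_zero]
    rw [hs, hδ]
    field_simp
    ring
  have hpres : ∀ x y, H ((A * B) *ᵥ x) ((A * B) *ᵥ y) = H x y := fun x y => by
    rw [← Matrix.mulVec_mulVec, ← Matrix.mulVec_mulVec, hA, hB]
  refine lifts_of_mulVec (suMk _ hdet hpres) fun k => ?_
  obtain rfl : k = 0 := Subsingleton.elim _ _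
  rw [suMk_mulVec, ← Matrix.mulVec_mulVec]
  have hBe : B *ᵥ e 0 = e 0 := by simp [B, two_mulVec, hew]
  rw [hBe, eM_mulVec, Fin.sum_univ_one, ← ht]
  simp only [A, two_mulVec, hef, hee, zero_smul, add_zero, one_smul]
  module

end Cfsg.Agent.Classical.UnitaryMinDeg
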