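import Mathlib
import Cfsg.Agent.Lib.Classical.UnitaryMinDeg.Radical

/-!
# Orbits of characters of skew-Hermitian matrices under congruence

A non-trivial character of the skew-Hermitian `m × m` matrices has at least
`(q^{2m} - 1)/(q + 1)` conjugates under congruence by matrices of determinant one.
-/

set_option autoImplicit false
set_option linter.unusedSectionVars false

namespace Cfsg.Agent.Classical.UnitaryMinDeg

open Matrix
open Cfsg.Agent.Forms
open Cfsg.Agent.Classical.Unitary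

variable {F : Type*} [Field F] [Fintype F] {q m : ℕ} (hF : Fintype.card F = q ^ 2)
variable {δ : F} (hδ : δ + δ ^ q = 0) (hδ0 : δ ≠ 0)

local notation "K" => fixField hF

/-! ### Scalars -/

include hF in
theorem pow_fix (κ : K) : (κ : F) ^ q = κ := κ.2

/-- The norm, with values in the fixed field. -/
def nrm (c : F) : K := ⟨c ^ (q + 1), by
  rw [mem_fixField, pow_succ, mul_pow, pow_qq hF, mul_comm]⟩

@[simp] theorem coe_nrm (c : F) : (nrm hF c : F) = c ^ (q + 1) := rfl

/-- `x ↦ (x - x ^ q) / δ`. -/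
def tz (x : F) : K := ⟨(x - x ^ q) / δ, by
  have h : δ ^ q = -δ := by linear_combination hδ
  rw [mem_fixField, div_pow, h, ← HermStd.qHom_apply hF (x - x ^ q), map_sub,
    HermStd.qHom_apply, HermStd.qHom_apply, pow_qq hF, div_neg, ← neg_div, neg_sub]⟩

@[simp] theorem coe_tz (x : F) : (tz hF hδ x : F) = (x - x ^ q) / δ := rfl

theorem tz_add (x y : F) : tz hF hδ (x + y) = tz hF hδ x + tz hF hδ y := by
  apply Subtype.ext
  simp [HermStd.add_pow_q hF, add_sub_add_comm, add_div]

theorem tz_sub (x y : F) : tz hF hδ (x - y) = tz hF hδ x - tz hF hδ y := by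
  rw [eq_sub_iff_add_eq, ← tz_add hF hδ, sub_add_cancel]

include hδ0 in
theorem tz_surjective : Function.Surjective (tz hF hδ) := by
  intro κ
  obtain ⟨γ, hγ⟩ := exists_trace_eq hF (c := (1 : F)) (one_pow q)
  refine ⟨γ * (κ * δ), Subtype.ext ?_⟩
  have h : δ ^ q = -δ := by linear_combination hδ
  rw [coe_tz, mul_pow, mul_pow, pow_fix hF κ, h, div_eq_iff hδ0]
  linear_combination (κ : F) * δ * hγ

/-! ### Root elements -/

/-- `a b b'ᴴ - aᴴ b' bᴴ`. -/
def oM (q : ℕ) (a : F) (b b' : Fin m → F) : Matrix (Fin m) (Fin m) F :=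
  Matrix.of fun i j => a * b i * b' j ^ q - a ^ q * b' i * b j ^ q

/-- The skew element `a b b'ᴴ - aᴴ b' bᴴ`. -/
def oEl (a : F) (b b' : Fin m → F) : skew hF m := ⟨oM q a b b', by
  show cT hF (oM q a b b') = -oM q a b b'
  ext i j
  simp only [cT_apply, oM, Matrix.of_apply, Matrix.neg_apply]
  rw [← HermStd.qHom_apply hF]
  simp only [map_sub, map_mul, HermStd.qHom_apply, pow_qq hF]
  ring⟩

/-- The root element `κ δ b bᴴ`. -/
def rEl (κ : K) (b : Fin m → F) : skew hF m :=
  ⟨Matrix.of fun i j => (κ : F) * δ * b i * b j ^ q, by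
    show cT hF (Matrix.of fun i j => (κ : F) * δ * b i * b j ^ q) =
      -(Matrix.of fun i j => (κ : F) * δ * b i * b j ^ q)
    ext i j
    have h : δ ^ q = -δ := by linear_combination hδ
    simp only [cT_apply, Matrix.of_apply, Matrix.neg_apply, mul_pow, pow_fix hF κ, h, pow_qq hF]
    ring⟩

theorem rEl_add (κ μ : K) (b : Fin m → F) :
    rEl hF hδ (κ + μ) b = rEl hF hδ κ b + rEl hF hδ μ b := by
  apply Subtype.ext
  ext i j
  simp [rEl, Subfield.coe_add, add_mul]

theorem oEl_add (a a' : F) (b b' : Fin m → F) :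
    oEl hF (a + a') b b' = oEl hF a b b' + oEl hF a' b b' := by
  apply Subtype.ext
  ext i j
  simp [oEl, oM, HermStd.add_pow_q hF]
  ring

theorem oEl_add_right (a : F) (b b' b'' : Fin m → F) :
    oEl hF a b (b' + b'') = oEl hF a b b' + oEl hF a b b'' := by
  apply Subtype.ext
  ext i j
  simp [oEl, oM, HermStd.add_pow_q hF]
  ring

theorem oEl_smul_left (a c : F) (b b' : Fin m → F) :
    oEl hF a (c • b) b' = oEl hF (a * c) b b' := by
  apply Subtype.ext
  ext i j
  simp [oEl, oM, mul_pow]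
  ring

include hδ0 in
theorem oEl_smul_self (a c : F) (b : Fin m → F) :
    oEl hF a b (c • b) = rEl hF hδ (tz hF hδ (a * c ^ q)) b := by
  apply Subtype.ext
  ext i j
  simp only [oEl, oM, rEl, coe_tz, Matrix.of_apply, Pi.smul_apply, smul_eq_mul, mul_pow,
    pow_qq hF]
  field_simp

theorem rEl_smul (κ : K) (c : F) (b : Fin m → F) :
    rEl hF hδ κ (c • b) = rEl hF hδ (nrm hF c * κ) b := by
  apply Subtype.ext
  ext i j
  simp only [rEl, Matrix.of_apply, Subfield.coe_mul, coe_nrm, Pi.smul_apply, smul_eq_mul, mul_pow]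
  ring

theorem rEl_add_vec (κ : K) (b b' : Fin m → F) :
    rEl hF hδ κ (b + b') = rEl hF hδ κ b + rEl hF hδ κ b' + oEl hF (κ * δ) b b' := by
  apply Subtype.ext
  ext i j
  have h : δ ^ q = -δ := by linear_combination hδ
  simp only [rEl, oEl, oM, AddSubgroup.coe_add, Matrix.add_apply, Matrix.of_apply, Pi.add_apply,
    HermStd.add_pow_q hF, mul_pow, pow_fix hF κ, h]
  ring

theorem mul_oM (P : Matrix (Fin m) (Fin m) F) (a : F) (b b' : Fin m → F) :
    P * oM q a b b' * cT hF P = oM q a (P *ᵥ b) (P *ᵥ b') := by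
  have e : ∀ u w : Fin m → F, oM q a u w = a • vecMulVec u (fun j => w j ^ q) -
      a ^ q • vecMulVec w (fun j => u j ^ q) := by
    intro u w
    ext i j
    simp [oM, Matrix.vecMulVec_apply]
    ring
  have h : ∀ u : Fin m → F, (fun j => u j ^ q) ᵥ* cT hF P = fun j => (P *ᵥ u) j ^ q := by
    intro u
    funext j
    rw [cT, Matrix.vecMul_transpose]
    exact (RingHom.map_mulVec (HermStd.qHom hF) P u j).symm
  rw [e, e, Matrix.mul_sub, Matrix.sub_mul]
  simp only [Matrix.mul_smul, Matrix.smul_mul, Matrix.mul_vecMulVec, Matrix.vecMulVec_mul, h]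

theorem adP_oEl (P : Matrix (Fin m) (Fin m) F) (a : F) (b b' : Fin m → F) :
    adP hF P (oEl hF a b b') = oEl hF a (P *ᵥ b) (P *ᵥ b') :=
  Subtype.ext (mul_oM hF P a b b')

include hδ0 in
theorem adP_rEl (P : Matrix (Fin m) (Fin m) F) (κ : K) (b : Fin m → F) :
    adP hF P (rEl hF hδ κ b) = rEl hF hδ κ (P *ᵥ b) := by
  obtain ⟨a, ha⟩ := tz_surjective hF hδ hδ0 κ
  have e : ∀ u : Fin m → F, rEl hF hδ κ u = oEl hF a u u := fun u => by
    have := oEl_smul_self hF hδ hδ0 a 1 u
    rw [one_smul, one_pow, mul_one, ha] at this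
    exact this.symm
  rw [e, e, adP_oEl]

/-! ### Characters -/

/-- A character of the skew-Hermitian matrices. -/
abbrev SkChar (m : ℕ) := Multiplicative (skew hF m) →* ℂ

variable (χ : SkChar hF m)

local notation "χ⟨" S "⟩" => χ (Multiplicative.ofAdd S)

/-- The restriction of a character to a root group. -/
def rootChar (b : Fin m → F) : AddChar K ℂ where
  toFun κ := χ (Multiplicative.ofAdd (rEl hF hδ κ b))
  map_zero_eq_one' := by
    have : rEl hF hδ 0 b = 0 := Subtype.ext (by ext i j; simp [rEl])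
    rw [this, ofAdd_zero, map_one]
  map_add_eq_mul' κ μ := by rw [rEl_add, ofAdd_add, map_mul]

@[simp] theorem rootChar_apply (b : Fin m → F) (κ : K) :
    rootChar hF hδ χ b κ = χ (Multiplicative.ofAdd (rEl hF hδ κ b)) := rfl

theorem rootChar_smul (c : F) (b : Fin m → F) (κ : K) :
    rootChar hF hδ χ (c • b) κ = rootChar hF hδ χ b (nrm hF c * κ) := by
  rw [rootChar_apply, rootChar_apply, rEl_smul]

include hδ0 in
/-- A non-trivial character is non-trivial on some root group. -/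
theorem exists_rootChar_ne (hχ : χ ≠ 1) : ∃ b, rootChar hF hδ χ b ≠ 1 := by
  by_contra hc
  push Not at hc
  have hR : ∀ κ b, χ⟨rEl hF hδ κ b⟩ = 1 := fun κ b => by
    rw [← rootChar_apply, hc b]; rfl
  have hO : ∀ a b b', χ⟨oEl hF a b b'⟩ = 1 := by
    intro a b b'
    have h1 := hR 1 ((a / δ) • b + b')
    rw [rEl_add_vec, ofAdd_add, ofAdd_add, map_mul, map_mul, hR, hR, one_mul, one_mul,
      Subfield.coe_one, one_mul, oEl_smul_left, mul_div_cancel₀ _ hδ0] at h1
    exact h1
  apply hχ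
  obtain ⟨γ, hγ⟩ := exists_trace_eq hF (c := (1 : F)) (one_pow q)
  refine MonoidHom.ext fun S => ?_
  have hS : S.toAdd = ∑ i, ∑ j, oEl hF (γ * (S.toAdd : Matrix (Fin m) (Fin m) F) i j)
      (Pi.single i 1) (Pi.single j 1) := by
    apply Subtype.ext
    ext k l
    simp only [AddSubmonoidClass.coe_finsetSum, Matrix.sum_apply, oEl, oM, Matrix.of_apply]
    have : ∀ i j, γ * (S.toAdd : Matrix (Fin m) (Fin m) F) i j * Pi.single (M := fun _ => F) i 1 k *
        Pi.single (M := fun _ => F) j 1 l ^ q -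
        (γ * (S.toAdd : Matrix (Fin m) (Fin m) F) i j) ^ q * Pi.single (M := fun _ => F) j 1 k *
          Pi.single (M := fun _ => F) i 1 l ^ q =
        (if i = k ∧ j = l then γ * (S.toAdd : Matrix (Fin m) (Fin m) F) i j else 0) -
        (if j = k ∧ i = l then (γ * (S.toAdd : Matrix (Fin m) (Fin m) F) i j) ^ q else 0) := by
      intro i j
      simp only [Pi.single_apply, ite_pow, one_pow, zero_pow (q_ne_zero hF)]
      congr 1 <;> split_ifs <;> simp_all
    simp only [this, Finset.sum_sub_distrib, ite_and]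
    simp only [Finset.sum_ite_eq', Finset.sum_ite_irrel, Finset.sum_const_zero, Finset.mem_univ,
      if_true]
    rw [mul_pow, skew_apply hF S.toAdd k l]
    linear_combination -(S.toAdd : Matrix (Fin m) (Fin m) F) k l * hγ
  rw [MonoidHom.one_apply, ← ofAdd_toAdd S, hS, ofAdd_sum, map_prod]
  refine Finset.prod_eq_one fun i _ => ?_
  rw [ofAdd_sum, map_prod]
  exact Finset.prod_eq_one fun j _ => hO _ _ _

include hF in
theorem exists_nrm (κ : K) : ∃ t : F, nrm hF t = κ := by
  obtain ⟨t, ht⟩ := UnitaryCount.exists_norm_eq' hF κ.2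
  exact ⟨t, Subtype.ext ht⟩

theorem mulShift_bijective {lam : AddChar K ℂ} (hlam : lam ≠ 1) :
    Function.Bijective fun κ : K => AddChar.mulShift lam κ := by
  haveI : Fintype K := Fintype.ofFinite _
  rw [Fintype.bijective_iff_injective_and_card]
  refine ⟨AddChar.to_mulShift_inj_of_isPrimitive (AddChar.IsPrimitive.of_ne_one hlam), ?_⟩
  exact AddChar.card_eq.symm

include hδ0 in
theorem twist_injective {lam : AddChar K ℂ} (hlam : lam ≠ 1) {c : F}
    (h : ∀ a, lam (tz hF hδ (a * c ^ q)) = 1) : c = 0 := by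
  by_contra hc
  obtain ⟨κ, hκ⟩ := AddChar.ne_one_iff.1 hlam
  obtain ⟨x, hx⟩ := tz_surjective hF hδ hδ0 κ
  exact hκ (by rw [← hx, ← h (x / c ^ q), div_mul_cancel₀ _ (pow_ne_zero _ hc)])

include hδ0 in
/-- The orthogonal projection: `χ (oEl a v (w + c v)) = 1` for a suitable `c`. -/
theorem exists_perp {v : Fin m → F} (hv : rootChar hF hδ χ v ≠ 1) (w : Fin m → F) :
    ∃ c : F, ∀ a, χ⟨oEl hF a v (w + c • v)⟩ = 1 := by
  classical
  let Φ : F → AddChar F ℂ := fun c =>
    { toFun := fun a => rootChar hF hδ χ v (tz hF hδ (a * c ^ q))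
      map_zero_eq_one' := by
        have : tz hF hδ (0 * c ^ q) = 0 := Subtype.ext (by simp [zero_pow (q_ne_zero hF)])
        rw [this, AddChar.map_zero_eq_one]
      map_add_eq_mul' := fun a a' => by rw [add_mul, tz_add, AddChar.map_add_eq_mul] }
  have hinj : Function.Injective Φ := by
    intro c d hcd
    refine sub_eq_zero.1 (twist_injective hF hδ hδ0 hv fun a => ?_)
    have h := DFunLike.congr_fun hcd a
    change rootChar hF hδ χ v (tz hF hδ (a * c ^ q)) = rootChar hF hδ χ v (tz hF hδ (a * d ^ q)) at h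
    have e : a * (c - d) ^ q + a * d ^ q = a * c ^ q := by
      rw [← mul_add, ← HermStd.add_pow_q hF, sub_add_cancel]
    rw [← e, tz_add, AddChar.map_add_eq_mul] at h
    have hne : rootChar hF hδ χ v (tz hF hδ (a * d ^ q)) ≠ 0 :=
      IsUnit.ne_zero (AddChar.val_isUnit _ _)
    exact (mul_eq_right₀ hne).1 h
  have hbij : Function.Bijective Φ :=
    (Fintype.bijective_iff_injective_and_card Φ).2 ⟨hinj, AddChar.card_eq.symm⟩
  let ψ : AddChar F ℂ :=
    { toFun := fun a => χ⟨oEl hF (-a) v w⟩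
      map_zero_eq_one' := by
        have : oEl hF (-0 : F) v w = 0 := Subtype.ext (by
          ext i j; simp [oEl, oM, zero_pow (q_ne_zero hF)])
        rw [this, ofAdd_zero, map_one]
      map_add_eq_mul' := fun a a' => by rw [neg_add, oEl_add, ofAdd_add, map_mul] }
  obtain ⟨c, hc⟩ := hbij.2 ψ
  refine ⟨c, fun a => ?_⟩
  rw [oEl_add_right, oEl_smul_self hF hδ hδ0, ofAdd_add, map_mul, ← rootChar_apply]
  have h := DFunLike.congr_fun hc a
  change rootChar hF hδ χ v (tz hF hδ (a * c ^ q)) = χ⟨oEl hF (-a) v w⟩ at h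
  rw [h, ← map_mul, ← ofAdd_add, ← oEl_add, add_neg_cancel]
  have : oEl hF (0 : F) v w = 0 := Subtype.ext (by
    ext i j; simp [oEl, oM, zero_pow (q_ne_zero hF)])
  rw [this, ofAdd_zero, map_one]

include hδ0 in
/-- An isotropic vector in every coset of a line on which `χ` is non-trivial. -/
theorem exists_isotropic_add {v : Fin m → F} (hv : rootChar hF hδ χ v ≠ 1) (w : Fin m → F) :
    ∃ c : F, rootChar hF hδ χ (w + c • v) = 1 := by
  obtain ⟨c₀, hc₀⟩ := exists_perp hF hδ hδ0 χ hv w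
  obtain ⟨κ, hκ⟩ := (mulShift_bijective hF hv).2 (rootChar hF hδ χ (w + c₀ • v))⁻¹
  obtain ⟨t, ht⟩ := exists_nrm hF κ
  refine ⟨c₀ + t, DFunLike.ext _ _ fun μ => ?_⟩
  have e : w + (c₀ + t) • v = t • v + (w + c₀ • v) := by module
  rw [e, rootChar_apply, rEl_add_vec, ofAdd_add, ofAdd_add, map_mul, map_mul, ← rootChar_apply,
    ← rootChar_apply, rootChar_smul, oEl_smul_left, hc₀, mul_one, AddChar.one_apply, ht]
  have h := DFunLike.congr_fun hκ μ
  change rootChar hF hδ χ v (κ * μ) = _ at h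
  rw [h, ← AddChar.mul_apply, inv_mul_cancel, AddChar.one_apply]

include hδ0 in
/-- A basis with one prescribed anisotropic vector, all others being isotropic. -/
theorem exists_basis (hχ : χ ≠ 1) :
    ∃ lam : AddChar K ℂ, lam ≠ 1 ∧ ∀ i : Fin m, ∃ P : Matrix (Fin m) (Fin m) F, P.det ≠ 0 ∧
      rootChar hF hδ χ (P *ᵥ Pi.single i 1) = lam ∧
      ∀ j, j ≠ i → rootChar hF hδ χ (P *ᵥ Pi.single j 1) = 1 := by
  classical
  obtain ⟨v, hv⟩ := exists_rootChar_ne hF hδ hδ0 χ hχ
  refine ⟨_, hv, fun i => ?_⟩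
  obtain ⟨l, hl⟩ : ∃ l, v l ≠ 0 := by
    by_contra h
    push Not at h
    refine hv (DFunLike.ext _ _ fun κ => ?_)
    have : rEl hF hδ κ v = 0 := Subtype.ext (by ext a b; simp [rEl, h])
    rw [rootChar_apply, this, ofAdd_zero, map_one, AddChar.one_apply]
  choose c hc using fun k : Fin m =>
    exists_isotropic_add hF hδ hδ0 χ hv (Pi.single k 1)
  obtain ⟨σ, hσ⟩ : ∃ σ : Equiv.Perm (Fin m), σ = Equiv.swap i l := ⟨_, rfl⟩
  let P : Matrix (Fin m) (Fin m) F := Matrix.of fun r j =>
    if σ j = l then v r else (Pi.single (σ j) 1 + c (σ j) • v : Fin m → F) r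
  have hcol : ∀ j, P *ᵥ Pi.single j 1 =
      if σ j = l then v else Pi.single (σ j) 1 + c (σ j) • v := by
    intro j
    rw [Matrix.mulVec_single_one]
    funext r
    by_cases h : σ j = l <;> simp [P, h]
  refine ⟨P, fun hdet => ?_, ?_, fun j hj => ?_⟩
  · obtain ⟨x, hx0, hx⟩ := Matrix.exists_mulVec_eq_zero_iff.2 hdet
    apply hx0
    have hsum : ∀ r, ∑ j, x j * (if σ j = l then v r else
        (Pi.single (σ j) 1 + c (σ j) • v : Fin m → F) r) = 0 := fun r => by
      have h := congrFun hx r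
      simp only [Matrix.mulVec, dotProduct, P, Matrix.of_apply, Pi.zero_apply] at h
      rw [← h]
      exact Finset.sum_congr rfl fun j _ => mul_comm _ _
    obtain ⟨Y, hY⟩ : ∃ Y : Fin m → F, Y = fun k => x (σ.symm k) := ⟨_, rfl⟩
    have hs' : ∀ r, ∑ k, Y k * (if k = l then v r else
        (Pi.single k 1 + c k • v : Fin m → F) r) = 0 := fun r => by
      rw [← hsum r, hY]
      exact (Fintype.sum_equiv σ _ _ fun j => by simp).symm
    obtain ⟨X, hX⟩ : ∃ X : F, X = ∑ k, Y k * (if k = l then 1 else c k) := ⟨_, rfl⟩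
    have hr : ∀ r, v r * X + (if r = l then 0 else Y r) = 0 := fun r => by
      refine Eq.trans ?_ (hs' r)
      rw [hX, Finset.mul_sum]
      have : (if r = l then 0 else Y r) = ∑ k, if k = r then (if k = l then 0 else Y k) else 0 := by
        simp
      rw [this, ← Finset.sum_add_distrib]
      refine Finset.sum_congr rfl fun k _ => ?_
      rcases eq_or_ne k l with rfl | hk
      · simp [mul_comm]
      · rcases eq_or_ne k r with rfl | hkr
        · simp [hk]; ring
        · simp [hk, hkr, Pi.single_apply, Ne.symm hkr]; ring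
    have hX0 : X = 0 := by
      have := hr l
      simpa [hl] using this
    have hY0 : ∀ k, k ≠ l → Y k = 0 := fun k hk => by
      have := hr k
      simpa [hk, hX0] using this
    have hYl : Y l = 0 := by
      rw [hX0, Finset.sum_eq_single l (fun k _ hk => by simp [hY0 k hk]) (by simp)] at hX
      simpa using hX.symm
    funext j
    have : Y (σ j) = x j := by simp [hY]
    rw [← this, Pi.zero_apply]
    rcases eq_or_ne (σ j) l with h | h
    · rw [h, hYl]
    · exact hY0 _ h
  · rw [hcol, if_pos (by simp [hσ])]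
  · have h : σ j ≠ l := fun h => hj (σ.injective (h.trans (by simp [hσ])))
    rw [hcol, if_neg h]
    exact hc _

/-- The transformed character. -/
def act (P : Matrix (Fin m) (Fin m) F) : SkChar hF m :=
  χ.comp (AddMonoidHom.toMultiplicative (adP hF P))

theorem act_apply (P : Matrix (Fin m) (Fin m) F) (S : skew hF m) :
    act hF χ P (Multiplicative.ofAdd S) = χ⟨adP hF P S⟩ := rfl

include hδ0 in
theorem rootChar_act (P : Matrix (Fin m) (Fin m) F) (b : Fin m → F) :
    rootChar hF hδ (act hF χ P) b = rootChar hF hδ χ (P *ᵥ b) := by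
  refine DFunLike.ext _ _ fun κ => ?_
  rw [rootChar_apply, rootChar_apply, act_apply, adP_rEl hF hδ hδ0]

/-- Allowed matrices: determinant one, or any invertible one in dimension one. -/
def Allowed (P : Matrix (Fin m) (Fin m) F) : Prop := P.det = 1 ∨ (m = 1 ∧ P.det ≠ 0)

include hδ0 in
theorem exists_scaled_basis (hχ : χ ≠ 1) :
    ∃ lam : AddChar K ℂ, lam ≠ 1 ∧ ∀ (i : Fin m) (κ : K), κ ≠ 0 →
      ∃ P : Matrix (Fin m) (Fin m) F, Allowed P ∧
      rootChar hF hδ χ (P *ᵥ Pi.single i 1) = AddChar.mulShift lam κ ∧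
      ∀ j, j ≠ i → rootChar hF hδ χ (P *ᵥ Pi.single j 1) = 1 := by
  classical
  obtain ⟨lam, hlam, hP⟩ := exists_basis hF hδ hδ0 χ hχ
  refine ⟨lam, hlam, fun i κ hκ => ?_⟩
  obtain ⟨P, hd, hPi, hPj⟩ := hP i
  obtain ⟨t, ht⟩ := exists_nrm hF κ
  have ht0 : t ≠ 0 := by
    rintro rfl
    exact hκ (by rw [← ht]; exact Subtype.ext (by simp))
  have hDc : ∀ (d : Fin m → F) (j : Fin m),
      (P * Matrix.diagonal d) *ᵥ Pi.single j 1 = d j • (P *ᵥ Pi.single j 1) := by
    intro d j
    rw [← Matrix.mulVec_mulVec]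
    have : Matrix.diagonal d *ᵥ Pi.single j 1 = d j • (Pi.single j 1 : Fin m → F) := by
      funext r
      simp only [Matrix.mulVec_diagonal, Pi.smul_apply, smul_eq_mul, Pi.single_apply]
      split_ifs with h <;> simp [h]
    rw [this, Matrix.mulVec_smul]
  have hone : ∀ (c : F) (j : Fin m), j ≠ i →
      rootChar hF hδ χ (c • (P *ᵥ Pi.single j 1)) = 1 := fun c j hj => DFunLike.ext _ _ fun μ => by
    rw [rootChar_smul, hPj j hj, AddChar.one_apply, AddChar.one_apply]
  have hti : rootChar hF hδ χ (t • (P *ᵥ Pi.single i 1)) = AddChar.mulShift lam κ :=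
    DFunLike.ext _ _ fun μ => by rw [rootChar_smul, hPi, ht]; rfl
  by_cases hm : ∃ j, j ≠ i
  · obtain ⟨j₀, hj₀⟩ := hm
    obtain ⟨u, hu⟩ : ∃ u, u = (P.det * t)⁻¹ := ⟨_, rfl⟩
    refine ⟨P * Matrix.diagonal (Function.update (Function.update 1 i t) j₀ u), Or.inl ?_, ?_,
      fun j hj => ?_⟩
    · rw [Matrix.det_mul, Matrix.det_diagonal,
        Finset.prod_update_of_mem (Finset.mem_univ _),
        Finset.prod_update_of_mem (by simp [hj₀.symm]), hu]
      simp only [Pi.one_apply, Finset.prod_const_one, mul_one]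
      field_simp
    · rw [hDc, Function.update_of_ne hj₀.symm, Function.update_self, hti]
    · rw [hDc]; exact hone _ j hj
  · push Not at hm
    have hm1 : m = 1 := by
      have h0 := hm ⟨0, i.pos⟩
      by_contra h1
      have h1' := hm ⟨1, by have := i.pos; omega⟩
      simpa [Fin.ext_iff] using h0.trans h1'.symm
    refine ⟨P * Matrix.diagonal (fun _ => t), Or.inr ⟨hm1, ?_⟩, ?_, fun j hj => ?_⟩
    · simp [Matrix.det_mul, hd, ht0]
    · rw [hDc, hti]
    · exact absurd (hm j) hj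

/-- The shear `1 + ∑_{k > i} d_k E_{ik}`. -/
def shear (i : Fin m) (d : {k : Fin m // i < k} → F) : Matrix (Fin m) (Fin m) F :=
  Matrix.of fun r k => (if r = k then 1 else 0) +
    (if h : i < k then (if r = i then d ⟨k, h⟩ else 0) else 0)

theorem det_shear (i : Fin m) (d : {k : Fin m // i < k} → F) : (shear i d).det = 1 := by
  have h : (shear i d).BlockTriangular id := by
    intro r k (hkr : k < r)
    have h1 : r ≠ k := hkr.ne'
    simp only [shear, Matrix.of_apply, if_neg h1, zero_add]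
    split_ifs with h2 h3
    · subst h3; exact absurd h2 hkr.not_gt
    · rfl
    · rfl
  rw [Matrix.det_of_upperTriangular h]
  refine Finset.prod_eq_one fun r _ => ?_
  simp only [shear, Matrix.of_apply, if_true]
  split_ifs with h2 h3
  · subst h3; exact absurd h2 (lt_irrefl _)
  · simp
  · simp

theorem shear_mulVec (i : Fin m) (d : {k : Fin m // i < k} → F) (k : Fin m) :
    shear i d *ᵥ Pi.single k 1 =
      Pi.single k 1 + (if h : i < k then d ⟨k, h⟩ else 0) • Pi.single i 1 := by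
  rw [Matrix.mulVec_single_one]
  funext r
  simp only [Matrix.col_apply, shear, Matrix.of_apply, Pi.add_apply, Pi.smul_apply, smul_eq_mul,
    Pi.single_apply]
  split_ifs <;> simp

/-- The index set of the distinguished conjugates. -/
abbrev OrbitIdx (m : ℕ) := Σ i : Fin m, {κ : K // κ ≠ 0} × ({k : Fin m // i < k} → F)

include hδ0 in
/-- Distinct conjugates of a non-trivial character, each non-trivial on a coordinate root group. -/
theorem exists_orbit (hχ : χ ≠ 1) :
    ∃ Ψ : OrbitIdx hF m → SkChar hF m, Function.Injective Ψ ∧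
      ∀ x, (∃ P, Allowed P ∧ Ψ x = act hF χ P) ∧
        rootChar hF hδ (Ψ x) (Pi.single x.1 1) ≠ 1 := by
  classical
  obtain ⟨lam, hlam, hP⟩ := exists_scaled_basis hF hδ hδ0 χ hχ
  choose P hPa hPi hPj using hP
  have hne : ∀ κ : K, κ ≠ 0 → AddChar.mulShift lam κ ≠ 1 := by
    intro κ hκ h
    refine hκ ((mulShift_bijective hF hlam).1 (h.trans ?_))
    exact (AddChar.mulShift_zero lam).symm
  let M : OrbitIdx hF m → Matrix (Fin m) (Fin m) F :=
    fun x => P x.1 x.2.1.1 x.2.1.2 * shear x.1 x.2.2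
  have hMlow : ∀ (x : OrbitIdx hF m) (j : Fin m), ¬ x.1 < j →
      M x *ᵥ Pi.single j 1 = P x.1 x.2.1.1 x.2.1.2 *ᵥ Pi.single j 1 := by
    intro x j hj
    rw [← Matrix.mulVec_mulVec, shear_mulVec, dif_neg hj, zero_smul, add_zero]
  have hdiag : ∀ x : OrbitIdx hF m,
      rootChar hF hδ (act hF χ (M x)) (Pi.single x.1 1) = AddChar.mulShift lam x.2.1.1 := fun x => by
    rw [rootChar_act hF hδ hδ0, hMlow x _ (lt_irrefl _), hPi]
  refine ⟨fun x => act hF χ (M x), ?_, fun x => ⟨⟨M x, ?_, rfl⟩, ?_⟩⟩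
  · rintro ⟨i, ⟨κ, hκ⟩, d⟩ ⟨i', ⟨κ', hκ'⟩, d'⟩ (h : act hF χ _ = act hF χ _)
    have hi : ∀ (i i' : Fin m) (κ κ' : K) (hκ : κ ≠ 0) (hκ' : κ' ≠ 0) d d',
        act hF χ (M ⟨i, ⟨κ, hκ⟩, d⟩) = act hF χ (M ⟨i', ⟨κ', hκ'⟩, d'⟩) → ¬ i < i' := by
      intro i i' κ κ' hκ hκ' d d' h hlt
      apply hne κ hκ
      rw [← hdiag ⟨i, ⟨κ, hκ⟩, d⟩, h, rootChar_act hF hδ hδ0,
        hMlow ⟨i', ⟨κ', hκ'⟩, d'⟩ i hlt.not_gt]
      exact hPj i' κ' hκ' i hlt.ne
    obtain rfl : i = i' := le_antisymm (not_lt.1 (hi i' i κ' κ hκ' hκ d' d h.symm))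
      (not_lt.1 (hi i i' κ κ' hκ hκ' d d' h))
    obtain rfl : κ = κ' := by
      apply (mulShift_bijective hF hlam).1
      show AddChar.mulShift lam κ = AddChar.mulShift lam κ'
      rw [← hdiag ⟨i, ⟨κ, hκ⟩, d⟩, h, hdiag]
    obtain rfl : d = d' := by
      funext k
      refine sub_eq_zero.1 (twist_injective hF hδ hδ0 (hne κ hκ) fun a => ?_)
      have hk := DFunLike.congr_fun h (Multiplicative.ofAdd
        (oEl hF a (Pi.single i 1) (Pi.single k.1 1)))
      simp only [act_apply, adP_oEl, M, ← Matrix.mulVec_mulVec, shear_mulVec,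
        dif_neg (lt_irrefl i), dif_pos k.2, zero_smul, add_zero, Matrix.mulVec_add,
        Matrix.mulVec_smul, oEl_add_right, oEl_smul_self hF hδ hδ0, ofAdd_add, map_mul,
        ← rootChar_apply, hPi] at hk
      have hne0 : ∀ S, χ S ≠ 0 := fun S => ((Group.isUnit S).map χ).ne_zero
      have h2 := mul_left_cancel₀ (hne0 _) hk
      have e : a * (d k - d' k) ^ q + a * d' k ^ q = a * d k ^ q := by
        rw [← mul_add, ← HermStd.add_pow_q hF, sub_add_cancel]
      rw [← e, tz_add, AddChar.map_add_eq_mul] at h2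
      exact (mul_eq_right₀ (IsUnit.ne_zero (AddChar.val_isUnit _ _))).1 h2
    rfl
  · rcases hPa x.1 x.2.1.1 x.2.1.2 with h | ⟨h1, h⟩
    · exact Or.inl (by rw [Matrix.det_mul, h, det_shear, one_mul])
    · exact Or.inr ⟨h1, by rw [Matrix.det_mul, det_shear, mul_one]; exact h⟩
  · show rootChar hF hδ (act hF χ (M x)) _ ≠ 1
    rw [hdiag]; exact hne _ x.2.1.2

theorem natCard_orbitIdx :
    Nat.card (OrbitIdx hF m) * (q + 1) = q ^ (2 * m) - 1 := by
  have hq := HermStd.one_lt_q hF
  have hk : ∀ i : Fin m, Nat.card {k : Fin m // i < k} = m - 1 - i := fun i => by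
    rw [Nat.card_eq_fintype_card, Fintype.card_subtype]
    have : (Finset.univ.filter fun k : Fin m => i < k) = Finset.Ioi i := by ext k; simp
    rw [this, Fin.card_Ioi]
  have hK : Nat.card {κ : K // κ ≠ 0} = q - 1 := by
    classical
    haveI : Fintype K := Fintype.ofFinite _
    rw [Nat.card_eq_fintype_card, Fintype.card_subtype_compl, Fintype.card_subtype_eq,
      ← Nat.card_eq_fintype_card, natCard_fixField]
  simp only [Nat.card_sigma, Nat.card_prod, Nat.card_fun, hK, hk, Nat.card_eq_fintype_card (α := F),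
    hF, ← pow_mul]
  rw [Fin.sum_univ_eq_sum_range (fun i => (q - 1) * q ^ (2 * (m - 1 - i))) m,
    Finset.sum_range_reflect (fun i => (q - 1) * q ^ (2 * i)) m, ← Finset.mul_sum]
  simp only [pow_mul]
  have h2 : q ^ 2 = (q - 1) * (q + 1) + 1 := by
    obtain ⟨r, rfl⟩ : ∃ r, q = r + 1 := ⟨q - 1, by omega⟩
    simp; ring
  have := geom_sum_mul_add ((q - 1) * (q + 1)) m
  rw [← h2] at this
  rw [← this, Nat.add_sub_cancel]
  ring

end Cfsg.Agent.Classical.UnitaryMinDeg
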