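import Mathlib
import Cfsg.Agent.Lib.Classical.UnitaryMinDeg.Chars
import Cfsg.Agent.Lib.Characters.Basic

/-!
# Lower bounds for the degrees of the complex representations of `SU n q`
-/

set_option autoImplicit false
set_option linter.unusedSectionVars false

namespace Cfsg.Agent.Classical.UnitaryMinDeg

open Matrix Module
open Cfsg.Agent.Forms
open Cfsg.Agent.Classical.Unitary

variable {V : Type*} [AddCommGroup V] [Module ℂ V]

/-- If a combination of vectors with distinct characters as coefficients vanishes identically,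
then every vector is zero. -/
theorem char_combination_eq_zero {A ι : Type*} [Monoid A] [Fintype ι] (χ : ι → (A →* ℂ))
    (hχ : Function.Injective χ) (w : ι → V) (h : ∀ a : A, ∑ i, χ i a • w i = 0) (i : ι) :
    w i = 0 := by
  rw [← Module.forall_dual_apply_eq_zero_iff ℂ]
  intro φ
  refine Fintype.linearIndependent_iff.1 ((linearIndependent_monoidHom A ℂ).comp χ hχ)
    (fun j => φ (w j)) ?_ i
  funext a
  have h1 := congrArg φ (h a)
  simp only [map_sum, map_smul, smul_eq_mul, map_zero] at h1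
  simpa [mul_comm] using h1

/-- Commuting operators have a common eigenvector in every non-zero invariant subspace. -/
theorem exists_common_eigenvector [FiniteDimensional ℂ V] {ι : Type*} [Finite ι]
    (T : ι → V →ₗ[ℂ] V) (U : Submodule ℂ V) (hU : U ≠ ⊥) (hinv : ∀ i, ∀ u ∈ U, T i u ∈ U)
    (hcomm : ∀ i j, ∀ u ∈ U, T i (T j u) = T j (T i u)) :
    ∃ u ∈ U, u ≠ 0 ∧ ∀ i, ∃ μ : ℂ, T i u = μ • u := by
  classical
  haveI := Fintype.ofFinite ι
  suffices h : ∀ s : Finset ι, ∃ U' ≤ U, U' ≠ ⊥ ∧ (∀ i, ∀ u ∈ U', T i u ∈ U') ∧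
      ∀ i ∈ s, ∃ μ : ℂ, ∀ u ∈ U', T i u = μ • u by
    obtain ⟨U', hle, hne, -, hμ⟩ := h Finset.univ
    obtain ⟨u, hu, hu0⟩ := Submodule.exists_mem_ne_zero_of_ne_bot hne
    exact ⟨u, hle hu, hu0, fun i => (hμ i (Finset.mem_univ i)).imp fun μ h => h u hu⟩
  intro s
  induction s using Finset.induction_on with
  | empty => exact ⟨U, le_rfl, hU, hinv, by simp⟩
  | insert a s _ ih =>
    obtain ⟨U', hle, hne, hinv', hμ⟩ := ih
    haveI : Nontrivial U' := Submodule.nontrivial_iff_ne_bot.2 hne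
    obtain ⟨μ, hμa⟩ := Module.End.exists_eigenvalue ((T a).restrict (hinv' a))
    obtain ⟨x, hx⟩ := hμa.exists_hasEigenvector
    refine ⟨U' ⊓ Module.End.eigenspace (T a) μ, inf_le_left.trans hle, fun hbot => ?_, ?_, ?_⟩
    · refine hx.2 (Subtype.ext ((Submodule.eq_bot_iff _).1 hbot x ⟨x.2, ?_⟩))
      have h := congrArg Subtype.val hx.apply_eq_smul
      exact Module.End.mem_eigenspace_iff.2 h
    · rintro i u ⟨hu, hu'⟩
      refine ⟨hinv' i u hu, Module.End.mem_eigenspace_iff.2 ?_⟩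
      rw [hcomm a i u (hle hu), Module.End.mem_eigenspace_iff.1 hu', map_smul]
    · intro i hi
      rcases Finset.mem_insert.1 hi with rfl | hi
      · exact ⟨μ, fun u hu => Module.End.mem_eigenspace_iff.1 hu.2⟩
      · exact (hμ i hi).imp fun μ h u hu => h u hu.1

variable {F : Type*} [Field F] [Fintype F] {q n m : ℕ} (hF : Fintype.card F = q ^ 2)
variable {e f : Fin m → Fin n → F} (hW : IsWittFrame q e f)
variable (ρ : Representation ℂ (Cfsg.SU n F q) V)

local notation "Vec" => (Fin n → F)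
local notation "H" => Cfsg.hermForm n F q
local notation "K" => fixField hF

theorem inv_apply_apply {G : Type*} [Group G] (σ : Representation ℂ G V) (g : G) (u : V) :
    σ g⁻¹ (σ g u) = u := by
  rw [← Module.End.mul_apply, ← map_mul, inv_mul_cancel, map_one, Module.End.one_apply]

theorem apply_ne_zero {G : Type*} [Group G] (σ : Representation ℂ G V) (g : G) {u : V}
    (hu : u ≠ 0) : σ g u ≠ 0 := fun h => hu (by rw [← inv_apply_apply σ g u, h, map_zero])

/-- The vectors on which the radical acts by `χ`. -/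
def weightSpace (χ : SkChar hF m) : Submodule ℂ V :=
  ⨅ S : skew hF m, Module.End.eigenspace (ρ (rad hF hW S)) (χ (Multiplicative.ofAdd S))

theorem mem_weightSpace {χ : SkChar hF m} {u : V} :
    u ∈ weightSpace hF hW ρ χ ↔
      ∀ S, ρ (rad hF hW S) u = χ (Multiplicative.ofAdd S) • u := by
  simp [weightSpace, Submodule.mem_iInf]

theorem exists_weight [FiniteDimensional ℂ V] {S₀ : skew hF m}
    (hne : ρ (rad hF hW S₀) ≠ 1) :
    ∃ (χ : SkChar hF m) (u : V), χ ≠ 1 ∧ u ≠ 0 ∧ u ∈ weightSpace hF hW ρ χ := by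
  classical
  obtain ⟨T, hT⟩ : ∃ T, T = ρ (rad hF hW S₀) := ⟨_, rfl⟩
  have hcomm : ∀ (S R : skew hF m) (x : V),
      ρ (rad hF hW S) (ρ (rad hF hW R) x) = ρ (rad hF hW R) (ρ (rad hF hW S) x) := by
    intro S R x
    rw [← Module.End.mul_apply, ← Module.End.mul_apply, ← map_mul, ← map_mul, ← rad_add, ← rad_add,
      add_comm]
  obtain ⟨u, ⟨y, hy⟩, hu0, hμ⟩ := exists_common_eigenvector
    (fun S : skew hF m => ρ (rad hF hW S)) (LinearMap.range (T - 1))
    (fun h => hne (by rw [LinearMap.range_eq_bot, sub_eq_zero] at h; rw [← hT, h]))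
    (by
      rintro S x ⟨z, rfl⟩
      refine ⟨ρ (rad hF hW S) z, ?_⟩
      rw [LinearMap.sub_apply, LinearMap.sub_apply, hT, map_sub, hcomm, Module.End.one_apply,
        Module.End.one_apply])
    (fun S R x _ => hcomm S R x)
  choose μ hμ using hμ
  let χ : SkChar hF m :=
    { toFun := fun S => μ S.toAdd
      map_one' := by
        refine smul_left_injective ℂ hu0 ?_
        show μ 0 • u = (1 : ℂ) • u
        rw [← hμ, rad_zero, map_one, Module.End.one_apply, one_smul]
      map_mul' := fun S R => by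
        refine smul_left_injective ℂ hu0 ?_
        show μ (S.toAdd + R.toAdd) • u = (μ S.toAdd * μ R.toAdd) • u
        rw [← hμ, rad_add, map_mul, Module.End.mul_apply, hμ, map_smul, hμ, smul_smul, mul_comm] }
  refine ⟨χ, u, fun h => ?_, hu0, (mem_weightSpace hF hW ρ).2 hμ⟩
  have hTu : T u = u := by
    rw [hT, hμ]
    have : μ S₀ = 1 := DFunLike.congr_fun h (Multiplicative.ofAdd S₀)
    rw [this, one_smul]
  have hTy : T y = y + u := by rw [← hy, LinearMap.sub_apply, Module.End.one_apply]; abel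
  have hpow : ∀ j : ℕ, (T ^ j) y = y + (j : ℂ) • u := by
    intro j
    induction j with
    | zero => simp
    | succ j ih =>
      rw [pow_succ', Module.End.mul_apply, ih, map_add, map_smul, hTy, hTu, Nat.cast_succ,
        add_smul, one_smul]
      abel
  have h1 := hpow (orderOf (rad hF hW S₀))
  rw [hT, ← map_pow, pow_orderOf_eq_one, map_one, Module.End.one_apply, left_eq_add,
    smul_eq_zero, Nat.cast_eq_zero] at h1
  rcases h1 with h1 | h1
  · exact (orderOf_pos _).ne' h1
  · exact hu0 h1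

include hF hW in
theorem e_ne_zero (i : Fin m) : e i ≠ 0 := fun h => by
  have := hW.ef_one i
  rw [h, H_zero_left] at this
  exact one_ne_zero this.symm

/-- If the radical acts trivially, so does the whole group. -/
theorem trivial_of_rad_trivial {δ : F} (hδ : δ + δ ^ q = 0) (hδ0 : δ ≠ 0) (hn : 1 ≤ n)
    (h32 : ¬ (n = 3 ∧ q = 2)) (hm : 1 ≤ m) (htriv : ∀ S, ρ (rad hF hW S) = 1)
    (g : Cfsg.SU n F q) : ρ g = 1 := by
  classical
  obtain ⟨i⟩ : Nonempty (Fin m) := ⟨⟨0, hm⟩⟩
  have he : ∀ {c : F} (hc : c + c ^ q = 0), ρ (tvu hF (hW.ee i i) hc) = 1 := by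
    intro c hc
    have hcd : c / δ ∈ fixField hF := by
      have h1 : δ ^ q = -δ := by linear_combination hδ
      have h2 : c ^ q = -c := by linear_combination hc
      rw [mem_fixField, div_pow, h1, h2, neg_div_neg_eq]
    have : tvu hF (hW.ee i i) hc = rad hF hW (rEl hF hδ ⟨c / δ, hcd⟩ (Pi.single i 1)) := by
      refine SU_ext fun x => ?_
      rw [tvu_mulVec, rad_mulVec]
      congr 1
      have hS : (rEl hF hδ ⟨c / δ, hcd⟩ (Pi.single i 1) : Matrix (Fin m) (Fin m) F) *ᵥ hv q e x =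
          (c * H x (e i)) • Pi.single i 1 := by
        funext r
        simp only [rEl, Matrix.mulVec, dotProduct, Matrix.of_apply, Pi.smul_apply, smul_eq_mul,
          div_mul_cancel₀ _ hδ0]
        rw [Finset.sum_eq_single i (fun b _ hb => by simp [hb, zero_pow (q_ne_zero hF)]) (by simp)]
        simp [hv]; ring
      rw [hS, Matrix.mulVec_smul, eM_mulVec_single]
    rw [this, htriv]
  have hall : tvSet F q n ⊆ {g | ρ g = 1} := by
    rintro t ⟨v, c, hv, hc, ht⟩
    have ht' : t = tvu hF hv hc := Subtype.ext (Subtype.ext ht)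
    show ρ t = 1
    rw [ht']
    by_cases hv0 : v = 0
    · have : tvu hF hv hc = 1 := SU_ext fun x => by rw [tvu_mulVec, hv0, mat_one]; simp
      rw [this, map_one]
    obtain ⟨k, a, hk⟩ := exists_su_point hF (e_ne_zero hF hW i) hv0 (hW.ee i i) hv
    have ha : a ≠ 0 := by
      rintro rfl
      rw [zero_smul] at hk
      exact mat_mulVec_ne_zero k (e_ne_zero hF hW i) hk
    have hav : H (a • v) (a • v) = 0 := by rw [H_smul_left, H_smul_right, hv]; simp
    obtain ⟨c', hc'⟩ : ∃ c', c' = c / a ^ (q + 1) := ⟨_, rfl⟩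
    have hNa : (a ^ (q + 1)) ^ q = a ^ (q + 1) := (nrm hF a).2
    have hc'' : c' + c' ^ q = 0 := by
      rw [hc', div_pow, hNa, ← add_div, hc, zero_div]
    have e1 : tvu hF hv hc = tvu hF hav hc'' := SU_ext fun x => by
      rw [tvu_mulVec, tvu_mulVec, H_smul_right, smul_smul, hc']
      congr 2
      rw [pow_succ]
      field_simp
    rw [e1, ← tvu_conj hF k hk (hW.ee i i) hav hc'', map_mul, map_mul, he hc'', mul_one, ← map_mul,
      mul_inv_cancel, map_one]
  have hg : g ∈ tvGroup F q n := by rw [tvGroup_eq_top hF hn h32]; exact Subgroup.mem_top g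
  refine Subgroup.closure_induction (p := fun g _ => ρ g = 1) (fun x hx => hall hx) (map_one ρ)
    (fun x y _ _ hx hy => by rw [map_mul, hx, hy, mul_one]) (fun x _ hx => ?_) hg
  have := congrArg (ρ x⁻¹ * ·) hx
  simp only [← map_mul, inv_mul_cancel, map_one, mul_one] at this
  exact this.symm

/-- The transported weight vectors. -/
theorem act_weight {χ : SkChar hF m} {u : V} (hu : u ∈ weightSpace hF hW ρ χ)
    {P : Matrix (Fin m) (Fin m) F} {L : Cfsg.SU n F q} (hL : mat L * eM e = eM e * P) :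
    ρ L⁻¹ u ∈ weightSpace hF hW ρ (act hF χ P) := by
  rw [mem_weightSpace] at hu ⊢
  intro S
  rw [act_apply, ← map_smul, ← hu, ← conj_rad hF hW hL, ← Module.End.mul_apply,
    ← Module.End.mul_apply, ← map_mul, ← map_mul]
  congr 2
  group

/-- The common hypothesis: an extension of the frame and the allowed lifts. -/
theorem exists_orbit_weights [FiniteDimensional ℂ V] {δ : F} (hδ : δ + δ ^ q = 0) (hδ0 : δ ≠ 0)
    (hn : 1 ≤ n) (h32 : ¬ (n = 3 ∧ q = 2)) (hm : 1 ≤ m)
    (hl : ∀ P : Matrix (Fin m) (Fin m) F, Allowed P → Lifts q e P) (hρ : ∃ g, ρ g ≠ 1) :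
    ∃ (Ψ : OrbitIdx hF m → SkChar hF m), Function.Injective Ψ ∧ ∀ x,
      weightSpace hF hW ρ (Ψ x) ≠ ⊥ ∧ rootChar hF hδ (Ψ x) (Pi.single x.1 1) ≠ 1 := by
  obtain ⟨S₀, hS₀⟩ : ∃ S, ρ (rad hF hW S) ≠ 1 := by
    by_contra h
    push Not at h
    obtain ⟨g, hg⟩ := hρ
    exact hg (trivial_of_rad_trivial hF hW ρ hδ hδ0 hn h32 hm h g)
  obtain ⟨χ, u, hχ, hu0, hu⟩ := exists_weight hF hW ρ hS₀
  obtain ⟨Ψ, hΨ, hP⟩ := exists_orbit hF hδ hδ0 χ hχ
  refine ⟨Ψ, hΨ, fun x => ⟨fun hbot => ?_, (hP x).2⟩⟩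
  obtain ⟨⟨P, hPa, hPx⟩, -⟩ := hP x
  obtain ⟨L, hL⟩ := hl P hPa
  have := act_weight hF hW ρ hu hL
  rw [← hPx, hbot, Submodule.mem_bot] at this
  exact apply_ne_zero ρ _ hu0 this

include hW in
theorem card_orbitIdx_le [FiniteDimensional ℂ V] {δ : F} (hδ : δ + δ ^ q = 0) (hδ0 : δ ≠ 0)
    (hn : 1 ≤ n) (h32 : ¬ (n = 3 ∧ q = 2)) (hm : 1 ≤ m)
    (hl : ∀ P : Matrix (Fin m) (Fin m) F, Allowed P → Lifts q e P) (hρ : ∃ g, ρ g ≠ 1) :
    Nat.card (OrbitIdx hF m) ≤ finrank ℂ V := by
  classical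
  haveI : Fintype (OrbitIdx hF m) := Fintype.ofFinite _
  obtain ⟨Ψ, hΨ, hW'⟩ := exists_orbit_weights hF hW ρ hδ hδ0 hn h32 hm hl hρ
  choose u hu hu0 using fun x => Submodule.exists_mem_ne_zero_of_ne_bot (hW' x).1
  rw [Nat.card_eq_fintype_card]
  refine LinearIndependent.fintype_card_le_finrank (b := u) ?_
  refine Fintype.linearIndependent_iff.2 fun c hc x => ?_
  have h0 : c x • u x = 0 := by
    refine char_combination_eq_zero Ψ hΨ (fun y => c y • u y) (fun S => ?_) x
    have h1 := congrArg (ρ (rad hF hW S.toAdd)) hc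
    rw [map_sum, map_zero] at h1
    rw [← h1]
    refine Finset.sum_congr rfl fun y _ => ?_
    rw [map_smul, (mem_weightSpace hF hW ρ).1 (hu y), smul_comm]
    rfl
  exact (smul_eq_zero.1 h0).resolve_right (hu0 x)

/-! ### The Heisenberg part in odd dimension -/

section Heisenberg

variable {w : Fin n → F} (hww : Cfsg.hermForm n F q w w = 1)
  (hwe : ∀ i, Cfsg.hermForm n F q w (e i) = 0)

include hF in
theorem exists_heis_scalar (α : F) : ∃ a : F, a + a ^ q = -(α ^ (q + 1)) := by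
  refine exists_trace_eq hF ?_
  rw [← HermStd.qHom_apply hF, map_neg, HermStd.qHom_apply]
  exact congrArg Neg.neg (nrm hF α).2

/-- A Heisenberg element at the isotropic vector `e i`. -/
noncomputable def heis (i : Fin m) (α : F) : Cfsg.SU n F q :=
  suMk (two q (α • w + (exists_heis_scalar hF α).choose • e i) (e i) (-(e i)) (α • w))
    (det_heis (hW.ee i i) (by rw [H_smul_left, hwe i, mul_zero])
      (by rw [H_smul_right, (H_eq_zero_comm hF).1 (hwe i), mul_zero]))
    (heis_preserves hF (hW.ee i i) (by rw [H_smul_left, hwe i, mul_zero]) (by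
      rw [(exists_heis_scalar hF α).choose_spec, H_smul_left, H_smul_right, hww, pow_succ]
      ring))

theorem heis_mulVec (i : Fin m) (α : F) (x : Vec) :
    mat (heis hF hW hww hwe i α) *ᵥ x = x + (H x (e i) • (α • w +
      (exists_heis_scalar hF α).choose • e i) - (α ^ q * H x w) • e i) := by
  rw [heis, suMk_mulVec, two_mulVec, H_smul_right]
  module

theorem heis_mulVec_e (i j : Fin m) (α : F) :
    mat (heis hF hW hww hwe i α) *ᵥ e j = e j := by
  rw [heis_mulVec, hW.ee, (H_eq_zero_comm hF).1 (hwe j)]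
  simp

theorem heis_rad_comm (i : Fin m) (α : F) (S : skew hF m) :
    rad hF hW S * heis hF hW hww hwe i α = heis hF hW hww hwe i α * rad hF hW S := by
  refine SU_ext fun x => ?_
  rw [mul_mulVec, mul_mulVec, rad_mulVec, rad_mulVec, Matrix.mulVec_add]
  have h1 : hv q e (mat (heis hF hW hww hwe i α) *ᵥ x) = hv q e x := by
    funext j
    show H _ (e j) = H x (e j)
    conv_lhs => rw [← heis_mulVec_e hF hW hww hwe i j α]
    exact SU_H _ _ _
  have h2 : ∀ b, mat (heis hF hW hww hwe i α) *ᵥ (eM e *ᵥ b) = eM e *ᵥ b := by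
    intro b
    rw [eM_mulVec, Matrix.mulVec_sum]
    exact Finset.sum_congr rfl fun j _ => by rw [Matrix.mulVec_smul, heis_mulVec_e]
  rw [h1, h2]

theorem heis_comm {δ : F} (hδ : δ + δ ^ q = 0) (hδ0 : δ ≠ 0) (i : Fin m) (α β : F) :
    heis hF hW hww hwe i β * heis hF hW hww hwe i α =
      rad hF hW (rEl hF hδ (tz hF hδ (α ^ q * β)) (Pi.single i 1)) *
        (heis hF hW hww hwe i α * heis hF hW hww hwe i β) := by
  refine SU_ext fun x => ?_
  have hew : H (e i) w = 0 := (H_eq_zero_comm hF).1 (hwe i)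
  have hS : ∀ y : Vec, (rEl hF hδ (tz hF hδ (α ^ q * β)) (Pi.single i 1) :
      Matrix (Fin m) (Fin m) F) *ᵥ hv q e y =
      ((α ^ q * β - β ^ q * α) * H y (e i)) • Pi.single i 1 := by
    intro y
    funext r
    simp only [rEl, coe_tz, Matrix.mulVec, dotProduct, Matrix.of_apply, Pi.smul_apply, smul_eq_mul,
      div_mul_cancel₀ _ hδ0, mul_pow, pow_qq hF]
    rw [Finset.sum_eq_single i (fun b _ hb => by simp [hb, zero_pow (q_ne_zero hF)]) (by simp)]
    simp [hv]; ring
  simp only [mul_mulVec, rad_mulVec, hS, Matrix.mulVec_smul, eM_mulVec_single, heis_mulVec,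
    H_add_left, H_sub_left, H_smul_left, hW.ee, hwe i, hew, hww]
  module

include hW hww hwe in
theorem heis_invariant (i : Fin m) (α : F) {χ : SkChar hF m} {u : V}
    (hu : u ∈ weightSpace hF hW ρ χ) :
    ρ (heis hF hW hww hwe i α) u ∈ weightSpace hF hW ρ χ := by
  rw [mem_weightSpace] at hu ⊢
  intro S
  rw [← Module.End.mul_apply, ← map_mul, heis_rad_comm, map_mul, Module.End.mul_apply, hu,
    map_smul]

omit hF in
theorem pow_fix_tz {hF : Fintype.card F = q ^ 2} {δ : F} (hδ : δ + δ ^ q = 0) (α : fixField hF)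
    (β : F) : tz hF hδ ((α : F) * β) = α * tz hF hδ β := Subtype.ext (by
  rw [coe_tz, Subfield.coe_mul, coe_tz, mul_pow, pow_fix hF α]
  ring)

include hW hww hwe in
theorem heis_twist {δ : F} (hδ : δ + δ ^ q = 0) (hδ0 : δ ≠ 0) (i : Fin m) {χ : SkChar hF m}
    (α : K) (β : F) {u : V} (hu : u ∈ weightSpace hF hW ρ χ) :
    ρ (heis hF hW hww hwe i β) (ρ (heis hF hW hww hwe i (α : F)) u) =
      rootChar hF hδ χ (Pi.single i 1) (α * tz hF hδ β) •
        ρ (heis hF hW hww hwe i (α : F)) (ρ (heis hF hW hww hwe i β) u) := by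
  have e1 : tz hF hδ ((α : F) ^ q * β) = α * tz hF hδ β := by
    rw [pow_fix hF α, pow_fix_tz]
  rw [← Module.End.mul_apply, ← map_mul, heis_comm hF hW hww hwe hδ hδ0, map_mul,
    Module.End.mul_apply, map_mul, Module.End.mul_apply, e1, rootChar_apply]
  exact (mem_weightSpace hF hW ρ).1
    (heis_invariant hF hW ρ hww hwe _ _ (heis_invariant hF hW ρ hww hwe _ _ hu)) _

include hW hww hwe in
/-- A weight space of a non-degenerate character has dimension at least `q`. -/
theorem exists_li_weight [FiniteDimensional ℂ V] {δ : F} (hδ : δ + δ ^ q = 0) (hδ0 : δ ≠ 0)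
    (i : Fin m) {χ : SkChar hF m} (hne : weightSpace hF hW ρ χ ≠ ⊥)
    (hχ : rootChar hF hδ χ (Pi.single i 1) ≠ 1) :
    ∃ b : K → V, (∀ s, b s ∈ weightSpace hF hW ρ χ) ∧ LinearIndependent ℂ b := by
  classical
  obtain ⟨d, hd⟩ : ∃ d : F, d ^ q ≠ d := by
    by_contra h
    push Not at h
    exact HermStd.qHom_ne_id hF (RingHom.ext h)
  have hd0 : tz hF hδ d ≠ 0 := fun h => by
    have := congrArg Subtype.val h
    rw [coe_tz, ZeroMemClass.coe_zero, div_eq_zero_iff, or_iff_left hδ0, sub_eq_zero] at this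
    exact hd this.symm
  have htz0 : ∀ α : K, tz hF hδ (α : F) = 0 := fun α =>
    Subtype.ext (by rw [coe_tz, pow_fix hF α]; simp)
  obtain ⟨u, hu, hu0, hμ⟩ := exists_common_eigenvector
    (fun α : K => ρ (heis hF hW hww hwe i (α : F))) (weightSpace hF hW ρ χ) hne
    (fun α u hu => heis_invariant hF hW ρ hww hwe i _ hu) (fun α β u hu => by
      rw [heis_twist hF hW ρ hww hwe hδ hδ0 i β (α : F) hu, htz0, mul_zero,
        AddChar.map_zero_eq_one, one_smul])
  choose μ hμ using hμ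
  let b : K → V := fun s => ρ (heis hF hW hww hwe i ((s : F) * d)) u
  have hμ0 : ∀ α, μ α ≠ 0 := fun α h => by
    have := hμ α
    rw [h, zero_smul] at this
    exact apply_ne_zero ρ _ hu0 this
  have hbe : ∀ s α : K, ρ (heis hF hW hww hwe i (α : F)) (b s) =
      (μ α * AddChar.mulShift (rootChar hF hδ χ (Pi.single i 1)) (-(s * tz hF hδ d)) α) • b s := by
    intro s α
    have h := heis_twist hF hW ρ hww hwe hδ hδ0 i α ((s : F) * d) hu
    rw [hμ α, map_smul, pow_fix_tz] at h
    rw [AddChar.mulShift_apply, mul_comm (μ α), mul_smul, h, smul_smul, ← AddChar.map_add_eq_mul]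
    have e0 : -(s * tz hF hδ d) * α + α * (s * tz hF hδ d) = 0 := by ring
    rw [e0, AddChar.map_zero_eq_one, one_smul]
  refine ⟨b, fun s => heis_invariant hF hW ρ hww hwe i _ hu, ?_⟩
  haveI : Fintype K := Fintype.ofFinite _
  refine Fintype.linearIndependent_iff.2 fun c hc s => ?_
  have h0 : c s • b s = 0 := by
    refine char_combination_eq_zero (fun t => (AddChar.mulShift
      (rootChar hF hδ χ (Pi.single i 1)) (-(t * tz hF hδ d))).toMonoidHom) ?_
      (fun t => c t • b t) (fun α => ?_) s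
    · intro s t hst
      exact mul_right_cancel₀ hd0 (neg_injective ((mulShift_bijective hF hχ).1
        (DFunLike.ext _ _ fun α => DFunLike.congr_fun hst (Multiplicative.ofAdd α))))
    · apply smul_right_injective V (hμ0 α.toAdd)
      show μ α.toAdd • _ = μ α.toAdd • 0
      have h1 := congrArg (ρ (heis hF hW hww hwe i (α.toAdd : F))) hc
      rw [map_sum, map_zero] at h1
      rw [smul_zero, Finset.smul_sum, ← h1]
      refine Finset.sum_congr rfl fun t _ => ?_
      rw [map_smul, hbe, smul_smul, smul_smul, smul_smul, AddChar.toMonoidHom_apply]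
      congr 1
      ring
  exact (smul_eq_zero.1 h0).resolve_right (apply_ne_zero ρ _ hu0)

include hW hww hwe in
theorem card_orbitIdx_mul_le [FiniteDimensional ℂ V] {δ : F} (hδ : δ + δ ^ q = 0) (hδ0 : δ ≠ 0)
    (hn : 1 ≤ n) (h32 : ¬ (n = 3 ∧ q = 2)) (hm : 1 ≤ m)
    (hl : ∀ P : Matrix (Fin m) (Fin m) F, Allowed P → Lifts q e P) (hρ : ∃ g, ρ g ≠ 1) :
    Nat.card (OrbitIdx hF m) * q ≤ finrank ℂ V := by
  classical
  haveI : Fintype (OrbitIdx hF m) := Fintype.ofFinite _
  haveI : Fintype K := Fintype.ofFinite _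
  obtain ⟨Ψ, hΨ, hW'⟩ := exists_orbit_weights hF hW ρ hδ hδ0 hn h32 hm hl hρ
  choose b hbw hbl using fun x =>
    exists_li_weight hF hW ρ hww hwe hδ hδ0 x.1 (hW' x).1 (hW' x).2
  have hcard : Nat.card (OrbitIdx hF m × K) ≤ finrank ℂ V := by
    rw [Nat.card_eq_fintype_card]
    refine LinearIndependent.fintype_card_le_finrank (b := fun p => b p.1 p.2) ?_
    refine Fintype.linearIndependent_iff.2 fun c hc => ?_
    rintro ⟨x, s⟩
    have hx : ∑ s, c (x, s) • b x s = 0 := by
      refine char_combination_eq_zero Ψ hΨ (fun y => ∑ s, c (y, s) • b y s) (fun S => ?_) x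
      have h1 := congrArg (ρ (rad hF hW S.toAdd)) hc
      rw [map_sum, map_zero, Fintype.sum_prod_type] at h1
      rw [← h1]
      refine Finset.sum_congr rfl fun y _ => ?_
      rw [Finset.smul_sum]
      refine Finset.sum_congr rfl fun t _ => ?_
      rw [map_smul, (mem_weightSpace hF hW ρ).1 (hbw y t), smul_comm]
      rfl
    exact Fintype.linearIndependent_iff.1 (hbl x) (fun t => c (x, t)) hx s
  rwa [Nat.card_prod, natCard_fixField] at hcard

end Heisenberg

/-! ### The standard frame -/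

include hF in
theorem exists_frame (h : 2 * m ≤ n) :
    ∃ e f : Fin m → Fin n → F, IsWittFrame q e f ∧
      (2 * m < n → ∃ w : Fin n → F, H w w = 1 ∧ (∀ i, H w (e i) = 0) ∧ ∀ i, H w (f i) = 0) := by
  classical
  have hq := HermStd.one_lt_q hF
  obtain ⟨y, hy⟩ := UnitaryCount.exists_norm_eq hF (μ := -1) (by simp)
    (by rw [← HermStd.qHom_apply hF, map_neg, map_one])
  have hy0 : y ≠ 0 := fun h => by simp [h] at hy
  obtain ⟨ζ, hζ, hζ1, -⟩ := exists_normOne_ne hF
  obtain ⟨l, hl⟩ : ∃ l, l = ((1 + y * (ζ * y) ^ q)⁻¹) ^ q := ⟨_, rfl⟩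
  have hyy : y * y ^ q = -1 := by rw [← pow_succ', hy]
  have hne : 1 + y * (ζ * y) ^ q ≠ 0 := by
    intro h
    have h1 : ζ ^ q = 1 := by
      rw [mul_pow] at h
      linear_combination -h + ζ ^ q * hyy
    apply hζ1
    rw [pow_succ, h1, one_mul] at hζ
    exact hζ
  have hp : ∀ i : Fin m, (i : ℕ) < n ∧ m + (i : ℕ) < n := fun i => by omega
  let a : Fin m → Fin n := fun i => ⟨i, (hp i).1⟩
  let b : Fin m → Fin n := fun i => ⟨m + i, (hp i).2⟩
  have hab : ∀ i j, a i ≠ b j := fun i j h => by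
    have := congrArg Fin.val h
    simp only [a, b] at this
    omega
  have haa : ∀ i j, a i = a j ↔ i = j := fun i j => by simp [a, Fin.ext_iff]
  have hbb : ∀ i j, b i = b j ↔ i = j := fun i j => by simp [b, Fin.ext_iff]
  let e : Fin m → Fin n → F := fun i => Pi.single (a i) 1 + y • Pi.single (b i) 1
  let f : Fin m → Fin n → F := fun i =>
    l • (Pi.single (a i) 1 + (ζ * y) • Pi.single (b i) 1)
  have hH : ∀ i j (c c' : F), H (Pi.single (a i) 1 + c • Pi.single (b i) 1)
      (Pi.single (a j) 1 + c' • Pi.single (b j) 1) = if i = j then 1 + c * c' ^ q else 0 := by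
    intro i j c c'
    simp only [H_add_left, H_add_right hF, H_smul_left, H_smul_right, H_single_single hF, haa, hbb,
      if_neg (hab _ _), if_neg fun h => hab _ _ (Eq.symm h)]
    split_ifs <;> ring
  refine ⟨e, f, ⟨fun i j => ?_, fun i => ?_, fun i j hij => ?_, fun i => ?_⟩, fun hlt => ?_⟩
  · rw [hH]
    split_ifs
    · rw [hyy, add_neg_cancel]
    · rfl
  · simp only [f, H_smul_left, H_smul_right, hH, if_true]
    have h2 : ζ * y * (ζ * y) ^ q = -1 := by
      rw [← pow_succ', mul_pow, hζ, one_mul, hy]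
    rw [h2, add_neg_cancel]; simp
  · simp only [e, f, H_smul_right, hH, if_neg hij, mul_zero]
  · simp only [e, f, H_smul_right, hH, if_true]
    rw [hl, pow_qq hF, inv_mul_cancel₀ hne]
  · refine ⟨Pi.single ⟨2 * m, hlt⟩ 1, ?_, fun i => ?_, fun i => ?_⟩
    · rw [H_single_single hF, if_pos rfl]
    · have h1 : (⟨2 * m, hlt⟩ : Fin n) ≠ a i := by simp [a, Fin.ext_iff]; omega
      have h2 : (⟨2 * m, hlt⟩ : Fin n) ≠ b i := by simp [b, Fin.ext_iff]; omega
      simp [e, H_add_right hF, H_smul_right, H_single_single hF, h1, h2]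
    · have h1 : (⟨2 * m, hlt⟩ : Fin n) ≠ a i := by simp [a, Fin.ext_iff]; omega
      have h2 : (⟨2 * m, hlt⟩ : Fin n) ≠ b i := by simp [b, Fin.ext_iff]; omega
      simp [f, H_add_right hF, H_smul_right, H_single_single hF, h1, h2]

include hF in
/-- An irreducible representation of degree at least two is non-trivial. -/
theorem exists_ne_one {k : ℕ} (σ : Representation ℂ (Cfsg.SU n F q) (Fin k → ℂ))
    (hσ : σ.IsIrreducible) (hk : 2 ≤ k) : ∃ g, σ g ≠ 1 := by
  by_contra htriv
  push Not at htriv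
  obtain ⟨-, hU⟩ := (Cfsg.Agent.Characters.isIrreducible_iff σ).1 hσ
  let v : Fin k → ℂ := Pi.single ⟨0, by omega⟩ 1
  rcases hU (Submodule.span ℂ {v}) (fun g w hw => by rw [htriv]; exact hw) with h1 | h1
  · rw [Submodule.span_singleton_eq_bot] at h1
    exact one_ne_zero (by simpa [v] using congrFun h1 ⟨0, by omega⟩ : (1 : ℂ) = 0)
  · have h2 := finrank_span_le_card ({v} : Set (Fin k → ℂ)) (R := ℂ)
    rw [h1, finrank_top, Module.finrank_fintype_fun_eq_card, Fintype.card_fin] at h2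
    simp at h2
    omega

include hF in
theorem min_degree_even (hn : 4 ≤ n) (heven : Even n) {k : ℕ}
    (σ : Representation ℂ (Cfsg.SU n F q) (Fin k → ℂ)) (hσ : σ.IsIrreducible) (hk : 2 ≤ k) :
    (q ^ n - 1) / (q + 1) ≤ k := by
  obtain ⟨r, rfl⟩ := heven
  obtain ⟨e, f, hW, -⟩ := exists_frame hF (n := r + r) (m := r) (by omega)
  obtain ⟨δ, hδ0, hδ⟩ := exists_traceZero hF
  have hl : ∀ P : Matrix (Fin r) (Fin r) F, Allowed P → Lifts q e P := by
    rintro P (h | ⟨h, -⟩)
    · exact lifts_of_det hF hW h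
    · omega
  have h := card_orbitIdx_le hF hW σ hδ hδ0 (by omega) (by omega) (by omega) hl
    (exists_ne_one hF σ hσ hk)
  rw [Module.finrank_fintype_fun_eq_card, Fintype.card_fin] at h
  refine le_trans (le_of_eq ?_) h
  rw [← two_mul, ← natCard_orbitIdx hF, Nat.mul_div_cancel _ (by omega)]

include hF in
theorem min_degree_odd (hn : 3 ≤ n) (hodd : Odd n) (h32 : ¬ (n = 3 ∧ q = 2)) {k : ℕ}
    (σ : Representation ℂ (Cfsg.SU n F q) (Fin k → ℂ)) (hσ : σ.IsIrreducible) (hk : 2 ≤ k) :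
    (q ^ n - q) / (q + 1) ≤ k := by
  obtain ⟨r, rfl⟩ := hodd
  obtain ⟨e, f, hW, hw⟩ := exists_frame hF (n := 2 * r + 1) (m := r) (by omega)
  obtain ⟨w, hww, hwe, hwf⟩ := hw (by omega)
  obtain ⟨δ, hδ0, hδ⟩ := exists_traceZero hF
  have hl : ∀ P : Matrix (Fin r) (Fin r) F, Allowed P → Lifts q e P := by
    rintro P (h | ⟨h, h'⟩)
    · exact lifts_of_det hF hW h
    · exact lifts_scalar_one hF hW h hww hwe hwf h'
  have h := card_orbitIdx_mul_le hF hW σ hww hwe hδ hδ0 (by omega) h32 (by omega) hl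
    (exists_ne_one hF σ hσ hk)
  rw [Module.finrank_fintype_fun_eq_card, Fintype.card_fin] at h
  refine le_trans (le_of_eq ?_) h
  have e1 : q ^ (2 * r + 1) - q = (q ^ (2 * r) - 1) * q := by
    rw [Nat.sub_mul, one_mul, ← pow_succ]
  rw [e1, ← natCard_orbitIdx hF, mul_right_comm, Nat.mul_div_cancel _ (by omega)]

end Cfsg.Agent.Classical.UnitaryMinDeg
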